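import Groth.Agent.Lib.Mate41.Basic

/-!
# `ξ` is invertible when the base change map of the left adjoints is
-/

set_option autoImplicit false

open CategoryTheory

namespace Groth.Agent.H21.Dual3BC

open Groth.Agent.Lib.Mate41.Basic

universe v₁ v₂ v₃ v₄ u₁ u₂ u₃ u₄

variable {A : Type u₁} [Category.{v₁} A] {B : Type u₂} [Category.{v₂} B]
  {A' : Type u₃} [Category.{v₃} A'] {B' : Type u₄} [Category.{v₄} B']
  {P : A ⥤ B} {P' : A' ⥤ B'} {G : B' ⥤ B} {G' : A' ⥤ A} {L : B ⥤ B'} {L' : A ⥤ A'}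
  {a : B ⥤ A} {a' : B' ⥤ A'}
  (adj : P ⊣ a) (adj' : P' ⊣ a') (adjg : L ⊣ G) (adjg' : L' ⊣ G')
  (e : G' ⋙ P ≅ P' ⋙ G)

/-- Precomposition with an isomorphism. -/
noncomputable def precompEquiv {C : Type*} [Category C] {X Y : C} (p : X ⟶ Y) [IsIso p] (Z : C) :
    (Y ⟶ Z) ≃ (X ⟶ Z) where
  toFun f := p ≫ f
  invFun f := inv p ≫ f
  left_inv f := by simp
  right_inv f := by simp

/-- Composition with `ξ`, read through the adjunctions. -/
theorem transpose_comp_xi (M : B') (N : A) (ψ : N ⟶ G'.obj (a'.obj M)) :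
    (adj.homEquiv _ _).symm (ψ ≫ xi adj adj' e M) =
      adjg.homEquiv _ _ (push adjg adjg' e N ≫
        (adj'.homEquiv _ _).symm ((adjg'.homEquiv _ _).symm ψ)) := by
  rw [adjg.homEquiv_naturality_right, adj.homEquiv_naturality_left_symm]
  unfold xi push
  rw [Equiv.symm_apply_apply, Equiv.apply_symm_apply]
  obtain ⟨χ, rfl⟩ := (adjg'.homEquiv N (a'.obj M)).surjective ψ
  rw [Equiv.symm_apply_apply, adj'.homEquiv_counit, adjg'.homEquiv_unit]
  have h := e.hom.naturality χ
  dsimp at h ⊢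
  rw [P.map_comp, G.map_comp, Category.assoc, Category.assoc, reassoc_of% h]

include adjg adjg' in
/-- `ξ` is an isomorphism when the base change map is. -/
theorem isIso_xi_of_push (h : ∀ K, IsIso (push adjg adjg' e K)) (M : B') :
    IsIso (xi adj adj' e M) := by
  suffices hb : ∀ N, Function.Bijective fun ψ : N ⟶ G'.obj (a'.obj M) => ψ ≫ xi adj adj' e M by
    obtain ⟨s, hs⟩ := (hb _).2 (𝟙 _)
    dsimp only at hs
    refine ⟨s, (hb _).1 ?_, hs⟩
    show (xi adj adj' e M ≫ s) ≫ xi adj adj' e M = 𝟙 _ ≫ xi adj adj' e M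
    rw [Category.assoc, hs, Category.comp_id, Category.id_comp]
  intro N
  haveI := h N
  have he : (fun ψ : N ⟶ G'.obj (a'.obj M) => ψ ≫ xi adj adj' e M) =
      (((adjg'.homEquiv _ _).symm.trans (adj'.homEquiv _ _).symm).trans
        ((precompEquiv (push adjg adjg' e N) M).trans
          ((adjg.homEquiv _ _).trans (adj.homEquiv _ _)))) := by
    funext ψ
    simp [precompEquiv, ← transpose_comp_xi adj adj' adjg adjg' e M N ψ]
  rw [he]
  exact Equiv.bijective _

end Groth.Agent.H21.Dual3BC
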