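import Groth.Agent.H21.Dual3BC.Mate
import Groth.Agent.H21.FMTrans.BaseChange
import Groth.Prelude.Def_Dual3
import Mathlib.CategoryTheory.Adjunction.FullyFaithful
import Mathlib.CategoryTheory.Adjunction.Restrict

/-!
# Base change of `Rf_*` and of its right adjoint on `D_QCoh`
-/

set_option autoImplicit false
set_option linter.style.haveILetI false
universe u

open CategoryTheory CategoryTheory.Limits AlgebraicGeometry

attribute [local instance] HasDerivedCategory.standard

namespace Groth.Agent.H21.Dual3BC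

open Groth.Agent.Lib Groth.Agent.Lib.DerivedOX

attribute [local instance] Groth.Agent.Lib.DerivedOX.LeftExists.hasLpull
  Groth.Agent.Lib.DerivedOX.Exists.hasRpush

noncomputable section

variable {X Y : Scheme.{u}}

/-- `Lf^*` preserves quasi-coherence of cohomology. -/
theorem lpullQC (f : X ⟶ Y) [DCoh.HasLpull f] : Dual3.LpullPreservesQCoh f :=
  fun _ hK => QCohLocal.isQCohD_Lpull f hK

/-- `Lf^* ⊣ Rf_*` on `D_QCoh`. -/
def adjQ (f : X ⟶ Y) [DCoh.HasLpull f] [DCoh.HasRpush f] (hL : Dual3.LpullPreservesQCoh f)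
    (hR : DCoh.RpushPreservesQCoh f) : Dual3.LpullQ f hL ⊣ DCoh.RpushQ f hR :=
  { unit :=
      { app := fun K => ObjectProperty.homMk ((PullPushAdj.derivedAdjunction f).unit.app K.obj)
        naturality := fun K L φ => by
          ext
          exact (PullPushAdj.derivedAdjunction f).unit.naturality φ.hom }
    counit :=
      { app := fun K => ObjectProperty.homMk ((PullPushAdj.derivedAdjunction f).counit.app K.obj)
        naturality := fun K L φ => by
          ext
          exact (PullPushAdj.derivedAdjunction f).counit.naturality φ.hom }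
    left_triangle_components := fun K => by
      ext
      exact (PullPushAdj.derivedAdjunction f).left_triangle_components K.obj
    right_triangle_components := fun K => by
      ext
      exact (PullPushAdj.derivedAdjunction f).right_triangle_components K.obj }

variable {X' Y' : Scheme.{u}} (f : X ⟶ Y) (g : Y' ⟶ Y) (f' : X' ⟶ Y') (g' : X' ⟶ X)
  (w : g' ≫ f = f' ≫ g) [DCoh.HasRpush f] [DCoh.HasRpush g] [DCoh.HasRpush f'] [DCoh.HasRpush g']
  [DCoh.HasLpull g] [DCoh.HasLpull g']
  (hf : DCoh.RpushPreservesQCoh f) (hg : DCoh.RpushPreservesQCoh g) (hf' : DCoh.RpushPreservesQCoh f')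
  (hg' : DCoh.RpushPreservesQCoh g')

/-- The identification of composite direct images on `D_QCoh`. -/
def sqQ : DCoh.RpushQ g' hg' ⋙ DCoh.RpushQ f hf ≅ DCoh.RpushQ f' hf' ⋙ DCoh.RpushQ g hg :=
  (ObjectProperty.fullyFaithfulι (DCoh.IsQCohD (X := Y))).whiskeringRight _ |>.preimageIso
    (Functor.isoWhiskerLeft (ObjectProperty.ι (DCoh.IsQCohD (X := X'))) (BCSquare.sqRight f g f' g' w))

theorem isIso_push_of (hLg : Dual3.LpullPreservesQCoh g) (hLg' : Dual3.LpullPreservesQCoh g')
    (h : ∀ K : DCoh.D X, DCoh.IsQCohD K → IsIso ((BCSquare.bcD f g f' g' w).app K))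
    (K : DCoh.DQCoh X) :
    IsIso (Lib.Mate41.Basic.push (adjQ g hLg hg) (adjQ g' hLg' hg') (sqQ f g f' g' w hf hg hf' hg') K) := by
  have h2 : IsIso (DCoh.baseChangeApp (PullPushAdj.derivedAdjunction g) (PullPushAdj.derivedAdjunction g')
      (BCSquare.sqRight f g f' g' w) K.obj) :=
    (BCSquare.isIso_baseChangeApp_iff f g f' g' w _ _ K.obj).2 (h K.obj K.property)
  have e1 : (ObjectProperty.ι (DCoh.IsQCohD (X := Y'))).map
      (Lib.Mate41.Basic.push (adjQ g hLg hg) (adjQ g' hLg' hg') (sqQ f g f' g' w hf hg hf' hg') K) =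
      DCoh.baseChangeApp (PullPushAdj.derivedAdjunction g) (PullPushAdj.derivedAdjunction g')
        (BCSquare.sqRight f g f' g' w) K.obj := by
    simp [Lib.Mate41.Basic.push, DCoh.baseChangeApp, adjQ, sqQ, Adjunction.homEquiv_counit,
      Adjunction.homEquiv_unit, Functor.FullyFaithful.whiskeringRight, ObjectProperty.fullyFaithfulι,
      fullyFaithfulInducedFunctor]
  haveI : IsIso ((ObjectProperty.ι (DCoh.IsQCohD (X := Y'))).map
      (Lib.Mate41.Basic.push (adjQ g hLg hg) (adjQ g' hLg' hg') (sqQ f g f' g' w hf hg hf' hg') K)) :=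
    e1 ▸ h2
  exact isIso_of_fully_faithful (ObjectProperty.ι (DCoh.IsQCohD (X := Y'))) _

/-- `ξ` is invertible for a square satisfying base change. -/
theorem exists_isIso_xi (h : ∀ K : DCoh.D X, DCoh.IsQCohD K → IsIso ((BCSquare.bcD f g f' g' w).app K))
    (a : DCoh.DQCoh Y ⥤ DCoh.DQCoh X) (a' : DCoh.DQCoh Y' ⥤ DCoh.DQCoh X')
    (adj : DCoh.RpushQ f hf ⊣ a) (adj' : DCoh.RpushQ f' hf' ⊣ a') :
    ∃ e : DCoh.RpushQ g' hg' ⋙ DCoh.RpushQ f hf ≅ DCoh.RpushQ f' hf' ⋙ DCoh.RpushQ g hg,
      ∀ M : DCoh.DQCoh Y', IsIso (Dual3.xi adj adj' e M) :=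
  ⟨sqQ f g f' g' w hf hg hf' hg', fun M =>
    isIso_xi_of_push adj adj' (adjQ g (lpullQC g) hg) (adjQ g' (lpullQC g') hg') _
      (isIso_push_of f g f' g' w hf hg hf' hg' (lpullQC g) (lpullQC g') h) M⟩

end

end Groth.Agent.H21.Dual3BC
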